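import Groth.Agent.Lib.DiagGrp.CharProps
import Groth.Agent.Lib.DiagGrp.Torus
import Groth.Agent.Lib.DiagGrp.Homs
import Groth.Agent.Lib.NormalTori14.Greatest

/-!
Characters of tori: non-trivial on every fibre iff faithfully flat.
-/

universe u

open CategoryTheory MonoidalCategory CartesianMonoidalCategory MonObj GrpObj AlgebraicGeometry
open CategoryTheory.Limits
open GrothLib.DiagGrp

set_option backward.isDefEq.respectTransparency false

namespace GrothLib.CharFib14

variable {S : Scheme.{u}}

/-- Equality after base change is unchanged by splitting the base change. -/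
theorem map_comp_eq_iff {A B : Over S} (u v : A ⟶ B) {W W' : Scheme.{u}} (f : W ⟶ S) (g : W' ⟶ W) :
    (Over.pullback (g ≫ f)).map u = (Over.pullback (g ≫ f)).map v ↔
      (Over.pullback g).map ((Over.pullback f).map u) = (Over.pullback g).map ((Over.pullback f).map v) := by
  have hu := (Over.pullbackComp g f).hom.naturality u
  have hv := (Over.pullbackComp g f).hom.naturality v
  simp only [Functor.comp_map] at hu hv
  constructor <;> intro h
  · rw [← cancel_epi ((Over.pullbackComp g f).hom.app A), ← hu, ← hv, h]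
  · rw [← cancel_mono ((Over.pullbackComp g f).hom.app B), hu, hv, h]

theorem map_eq_of_comp {A B : Over S} (u v : A ⟶ B) {W W' : Scheme.{u}} (f : W ⟶ S) (g : W' ⟶ W)
    (h : (Over.pullback f).map u = (Over.pullback f).map v) :
    (Over.pullback (g ≫ f)).map u = (Over.pullback (g ≫ f)).map v :=
  (map_comp_eq_iff u v f g).mpr (by rw [h])

/-- Base change along an fpqc morphism is faithful. -/
theorem eq_of_map_eq {A B : Over S} (u v : A ⟶ B) {W : Scheme.{u}} (f : W ⟶ S) [Flat f] [Surjective f]
    [QuasiCompact f] (h : (Over.pullback f).map u = (Over.pullback f).map v) : u = v := by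
  apply Over.OverMorphism.ext
  haveI : Epi (pullback.fst A.hom f) := Flat.epi_of_flat_of_surjective _
  rw [← cancel_epi (pullback.fst A.hom f), ← (isPullback_overMap u f).w, ← (isPullback_overMap v f).w, h]

theorem DSmap_zero (W : Scheme.{u}) (M N : Type) [AddCommGroup M] [AddCommGroup N] :
    Red.DSmap W (0 : N →+ M) = 1 := by
  refine ds_hom_ext fun C _ p χ => ?_
  rw [dsPoint_DSmap, MonObj.comp_one,
    show χ.comp (AddMonoidHom.toMultiplicative (0 : N →+ M)) = 1 from MonoidHom.ext fun n => map_one χ]
  exact map_one _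

variable {T : Over S} [GrpObj T]

/-- At every point, after a field extension, a character of a torus is given by a character group element. -/
theorem exists_char_at (hT : Red.IsTorus T) (α : T ⟶ Red.Gm S) [IsMonHom α] (s : S) :
    ∃ (L : Type u) (_ : Field L) (m : Spec (CommRingCat.of L) ⟶ S), m.base (IsLocalRing.closedPoint L) = s ∧
      (Flat ((Over.pullback m).map α).left ∧ Surjective ((Over.pullback m).map α).left ↔
        (Over.pullback m).map α ≠ 1) := by
  obtain ⟨S', f, -, hfs, -, hloc⟩ := hT
  obtain ⟨s', hs'⟩ := hfs.1 s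
  obtain ⟨U, hU, r, ⟨e⟩⟩ := hloc s'
  obtain ⟨x, hx⟩ : ∃ x : (U : Scheme.{u}), U.ι x = s' := ⟨⟨s', hU⟩, rfl⟩
  let y := (U : Scheme.{u}).fromSpecResidueField x
  obtain ⟨eG⟩ := NormalTori14.exists_iso_bcDS (U.ι ≫ f) ℤ
  let a : Red.bc (U.ι ≫ f) T ≅ Red.DS U (Fin r → ℤ) := (Grp.forget _).mapIso e
  let b : Red.bc (U.ι ≫ f) (Red.Gm S) ≅ Red.DS U ℤ := (Grp.forget _).mapIso eG.symm
  haveI : IsMonHom a.inv := e.inv.hom.isMonHom_hom
  haveI : IsMonHom b.hom := eG.inv.hom.isMonHom_hom
  set v : Red.DS U (Fin r → ℤ) ⟶ Red.DS U ℤ := a.inv ≫ (Over.pullback (U.ι ≫ f)).map α ≫ b.hom with hv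
  obtain ⟨φ, hφ⟩ := exists_char v (L := (U : Scheme.{u}).residueField x) y
  haveI := isMonHom_mul_inv (mul_comm_of_charts (hasChartsFpqc_DS (M := ℤ) (U : Scheme.{u}) fgM inferInstance))
    v (Red.DSmap _ φ)
  have hvy := pullback_map_eq v (Red.DSmap _ φ) y hφ
  let P : MorphismProperty Scheme.{u} := @Flat ⊓ @Surjective
  haveI := descendsAlong_flat_surjective.{u}
  have hP : P ((Over.pullback (y ≫ U.ι ≫ f)).map α).left ↔ Function.Injective φ := by
    refine (pAt_comp P α (U.ι ≫ f) y).trans ((p_map_iso_iff P a b _ _).symm.trans ?_)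
    rw [← hv, hvy]
    exact (pAt_dsmap_iff φ _).trans ⟨charCond_flat_surjective.neg _ _ _ φ,
      fun h => charCond_flat_surjective.dsmap φ h _⟩
  have h1 : a.inv ≫ (Over.pullback (U.ι ≫ f)).map (1 : T ⟶ Red.Gm S) ≫ b.hom = 1 := by
    rw [Functor.map_one, MonObj.one_comp, MonObj.comp_one]
  have hone : (Over.pullback (y ≫ U.ι ≫ f)).map α = 1 ↔ φ = 0 := by
    rw [← Functor.map_one (Over.pullback (y ≫ U.ι ≫ f)), map_comp_eq_iff]
    constructor
    · intro h
      by_contra h0
      have hd : (Over.pullback y).map (Red.DSmap _ φ) = (Over.pullback y).map (Red.DSmap _ (0 : ℤ →+ (Fin r → ℤ))) := by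
        rw [← hvy, hv, DSmap_zero, ← h1]
        simp only [Functor.map_comp, h]
      have hinj : Function.Injective φ := by
        rw [injective_iff_map_eq_zero]
        intro n hn
        rw [← _root_.mul_one n, ← smul_eq_mul, map_zsmul] at hn
        rcases smul_eq_zero.mp hn with h' | h'
        · exact h'
        · exact absurd (AddMonoidHom.ext_int (f := φ) (g := 0) h') h0
      have hP0 : P ((Over.pullback y).map (Red.DSmap (U : Scheme.{u}) (0 : ℤ →+ (Fin r → ℤ)))).left := by
        rw [← hd]
        exact (pAt_dsmap_iff φ _).mpr (charCond_flat_surjective.dsmap φ hinj _)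
      exact one_ne_zero (charCond_flat_surjective.neg _ _ _ (0 : ℤ →+ (Fin r → ℤ)) ((pAt_dsmap_iff _ _).mp hP0)
        (show (0 : ℤ →+ (Fin r → ℤ)) 1 = (0 : ℤ →+ (Fin r → ℤ)) 0 from rfl))
    · intro h
      subst h
      have h' : (Over.pullback y).map v = (Over.pullback y).map
          (a.inv ≫ (Over.pullback (U.ι ≫ f)).map (1 : T ⟶ Red.Gm S) ≫ b.hom) := by rw [hvy, DSmap_zero, h1]
      rw [hv, Functor.map_comp, Functor.map_comp, Functor.map_comp, Functor.map_comp] at h'
      exact (cancel_mono _).mp ((cancel_epi _).mp h')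
  refine ⟨_, inferInstance, y ≫ U.ι ≫ f, ?_, ?_⟩
  · rw [Scheme.Hom.comp_apply, Scheme.Hom.comp_apply]
    exact (congrArg f ((congrArg U.ι (Scheme.fromSpecResidueField_apply x _)).trans hx)).trans hs'
  · change P _ ↔ _
    rw [hP, Ne, hone]
    refine ⟨fun h h0 => one_ne_zero (h (show φ 1 = φ 0 by rw [h0]; rfl)), fun h => ?_⟩
    rw [injective_iff_map_eq_zero]
    intro n hn
    rw [← _root_.mul_one n, ← smul_eq_mul, map_zsmul] at hn
    rcases smul_eq_zero.mp hn with h' | h'
    · exact h'
    · exact absurd (AddMonoidHom.ext_int (f := φ) (g := 0) h') h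

/-- Equality on a field-valued point descends to the residue field. -/
theorem residue_eq_of_field {A B : Over S} (u v : A ⟶ B) {L : Type u} [Field L] (m : Spec (CommRingCat.of L) ⟶ S)
    (h : (Over.pullback m).map u = (Over.pullback m).map v) :
    (Over.pullback (S.fromSpecResidueField (m.base (IsLocalRing.closedPoint L)))).map u =
      (Over.pullback (S.fromSpecResidueField (m.base (IsLocalRing.closedPoint L)))).map v := by
  have key : ∀ p : (x : S) × (S.residueField x ⟶ CommRingCat.of L),
      (Over.pullback (Spec.map p.2 ≫ S.fromSpecResidueField p.1)).map u =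
        (Over.pullback (Spec.map p.2 ≫ S.fromSpecResidueField p.1)).map v →
      (Over.pullback (S.fromSpecResidueField p.1)).map u = (Over.pullback (S.fromSpecResidueField p.1)).map v := by
    intro p hp
    have : Flat (Spec.map p.2) := flat_of_field (L := S.residueField p.1) _
    have : Surjective (Spec.map p.2) :=
      ⟨fun x => ⟨IsLocalRing.closedPoint L, Subsingleton.elim (α := PrimeSpectrum (S.residueField p.1)) _ _⟩⟩
    exact eq_of_map_eq _ _ (Spec.map p.2) ((map_comp_eq_iff u v _ _).mp hp)
  have h3 : Spec.map (Scheme.SpecToEquivOfField L S m).2 ≫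
      S.fromSpecResidueField (Scheme.SpecToEquivOfField L S m).1 = m :=
    (Scheme.SpecToEquivOfField L S).symm_apply_apply m
  exact key (Scheme.SpecToEquivOfField L S m) (by rw [h3]; exact h)

variable (hT : Red.IsTorus T) (α : T ⟶ Red.Gm S) [IsMonHom α]

/-- A character non-trivial on the geometric fibres stays non-trivial after any non-empty base change. -/
theorem ne_one_of_geomFibres (hα : ∀ s : S, (Over.pullback (Red.geomPt s)).map α ≠ 1) {S' : Scheme.{u}}
    (g : S' ⟶ S) (hS' : Nonempty S') : (Over.pullback g).map α ≠ 1 := by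
  obtain ⟨s'⟩ := hS'
  intro h
  have h1 := map_eq_of_comp α 1 g (S'.fromSpecResidueField s') (by rw [h, Functor.map_one])
  have h2 := residue_eq_of_field (L := S'.residueField s') α 1 _ h1
  set p := (S'.fromSpecResidueField s' ≫ g).base (IsLocalRing.closedPoint (S'.residueField s')) with hp
  exact hα p ((map_eq_of_comp α 1 _ (Spec.map (CommRingCat.ofHom
    (algebraMap (S.residueField p) (AlgebraicClosure (S.residueField p))))) h2).trans (Functor.map_one _))

include hT in
theorem flat_surjective_of_base_changes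
    (hα : ∀ (S' : Scheme.{u}) (g : S' ⟶ S), Nonempty ↥S' → (Over.pullback g).map α ≠ 1) :
    Flat α.left ∧ Surjective α.left := by
  haveI := descendsAlong_flat_surjective.{u}
  let P : MorphismProperty Scheme.{u} := @Flat ⊓ @Surjective
  obtain ⟨U, -, hU, hPU⟩ := exists_clopen_locus (P := P) charCond_flat_surjective α
    (hasChartsFpqc_of_isTorus_any hT) (hasChartsFpqc_DS (M := ℤ) S fgM inferInstance)
  have htop : U = ⊤ := by
    refine eq_top_iff.mpr fun s _ => (hU s).mpr ?_
    obtain ⟨L, _, m, hm, hiff⟩ := exists_char_at hT α s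
    have := (pAt_field_iff P α m).mp (hiff.mpr (hα _ m ⟨IsLocalRing.closedPoint L⟩))
    rwa [hm] at this
  subst htop
  haveI : IsIso (⊤ : S.Opens).ι := inferInstanceAs (IsIso S.topIso.hom)
  exact MorphismProperty.of_isPullback_of_descendsAlong (P := P) (Q := @Surjective ⊓ @Flat ⊓ @QuasiCompact)
    (isPullback_overMap α (⊤ : S.Opens).ι)
    (MorphismProperty.of_isPullback (P := @Surjective ⊓ @Flat ⊓ @QuasiCompact)
      (IsPullback.of_hasPullback (Red.Gm S).hom (⊤ : S.Opens).ι).flip
      ⟨⟨inferInstance, inferInstance⟩, inferInstance⟩) hPU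

include hT in
theorem ne_one_of_flat_surjective [Flat α.left] [Surjective α.left] (s : S) :
    (Over.pullback (Red.geomPt s)).map α ≠ 1 := by
  obtain ⟨L, _, m, hm, hiff⟩ := exists_char_at hT α s
  have hne : (Over.pullback m).map α ≠ 1 := hiff.mp
    (MorphismProperty.of_isPullback (P := (@Flat ⊓ @Surjective : MorphismProperty Scheme.{u}))
      (isPullback_overMap α m).flip ⟨inferInstance, inferInstance⟩)
  intro h
  have hs : (Over.pullback (S.fromSpecResidueField s)).map α = (Over.pullback (S.fromSpecResidueField s)).map 1 := by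
    have h' := residue_eq_of_field α 1 (Red.geomPt s) (by rw [h, Functor.map_one])
    convert h' using 0
    rw [show (Red.geomPt s).base (IsLocalRing.closedPoint _) = s from by
      rw [Scheme.Hom.comp_apply]; exact Scheme.fromSpecResidueField_apply s _]
  subst hm
  apply hne
  rw [← Functor.map_one (Over.pullback m)]
  have h3 : Spec.map (Scheme.SpecToEquivOfField L S m).2 ≫
      S.fromSpecResidueField (Scheme.SpecToEquivOfField L S m).1 = m :=
    (Scheme.SpecToEquivOfField L S).symm_apply_apply m
  rw [← h3]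
  exact map_eq_of_comp α 1 _ _ hs

end GrothLib.CharFib14
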